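import Mathlib
import Cfsg.Prelude.Def_Spor_Ru
import Cfsg.Agent.Lib.Helper29.RvLBasic

set_option autoImplicit false

/-!
# Project RU (helper16): the action of `fourRu` on the lines of minimal vectors

Generic part: elements of `fourRu` are `ℤ[i]`-linear and preserve the Hermitian form; the scalar `i`
as an element of `fourRu`; the action on the classes of minimal vectors modulo units, given a
labelling `rep : ℕ → RuVec` of the classes (`RuLines`).
-/

namespace Cfsg.Agent.Lib.Helper16.RU

open Cfsg.Spor Cfsg.Agent.Lib.Helper29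

/-! ### elements of `fourRu` -/

theorem ruact_add (f : fourRu) (v w : ruLattice) : f.1 (v + w) = f.1 v + f.1 w := f.2.1 v w

theorem ruact_I (f : fourRu) (v : ruLattice) : f.1 (ruI v) = ruI (f.1 v) := f.2.2.1 v

theorem ruact_norm (f : fourRu) (v : ruLattice) :
    ruNorm ((f.1 v : ruLattice) : RuVec) = ruNorm (v : RuVec) := f.2.2.2 v

/-- an element of `fourRu` as an additive hom -/
def ruactHom (f : fourRu) : ruLattice →+ ruLattice where
  toFun := f.1
  map_zero' := by
    have h := ruact_add f 0 0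
    rw [add_zero] at h
    exact left_eq_add.mp h
  map_add' := ruact_add f

theorem ruactHom_apply (f : fourRu) (v : ruLattice) : ruactHom f v = f.1 v := rfl

theorem ruact_zero (f : fourRu) : f.1 0 = 0 := (ruactHom f).map_zero

theorem ruact_neg (f : fourRu) (v : ruLattice) : f.1 (-v) = -f.1 v := (ruactHom f).map_neg v

theorem ruact_sum {ι : Type*} (f : fourRu) (s : Finset ι) (g : ι → ruLattice) :
    f.1 (∑ t ∈ s, g t) = ∑ t ∈ s, f.1 (g t) := map_sum (ruactHom f) g s

theorem ruact_zsmul (f : fourRu) (a : ℤ) (v : ruLattice) : f.1 (a • v) = a • f.1 v :=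
  map_zsmul (ruactHom f) a v

/-! ### the `ℤ[i]`-module structure of the lattice -/

theorem ru_gauss_eq (c : GaussianInt) : c = (c.re : GaussianInt) + (c.im : GaussianInt) * gI := by
  apply Zsqrtd.ext <;> simp [gI]

theorem ru_smul_mem (c : GaussianInt) {v : RuVec} (hv : v ∈ ruLattice) : c • v ∈ ruLattice := by
  have h : c • v = c.re • v + c.im • (gI • v) := by
    conv_lhs => rw [ru_gauss_eq c]
    rw [add_smul, mul_smul, Int.cast_smul_eq_zsmul, Int.cast_smul_eq_zsmul]
  rw [h]
  exact ruLattice.add_mem (ruLattice.zsmul_mem hv _)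
    (ruLattice.zsmul_mem (gI_smul_mem_ruLattice hv) _)

/-- scalar multiplication by a Gaussian integer on the lattice -/
def ruSm (c : GaussianInt) (v : ruLattice) : ruLattice := ⟨c • (v : RuVec), ru_smul_mem c v.2⟩

theorem ruSm_coe (c : GaussianInt) (v : ruLattice) : ((ruSm c v : ruLattice) : RuVec) = c • (v : RuVec) :=
  rfl

theorem ruSm_gI (v : ruLattice) : ruSm gI v = ruI v := rfl

theorem ruSm_eq (c : GaussianInt) (v : ruLattice) : ruSm c v = c.re • v + c.im • ruI v := by
  apply Subtype.ext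
  rw [ruSm_coe]
  push_cast
  conv_lhs => rw [ru_gauss_eq c]
  rw [add_smul, mul_smul, Int.cast_smul_eq_zsmul, Int.cast_smul_eq_zsmul]
  rfl

theorem ruact_sm (f : fourRu) (c : GaussianInt) (v : ruLattice) : f.1 (ruSm c v) = ruSm c (f.1 v) := by
  rw [ruSm_eq, ruSm_eq, ruact_add, ruact_zsmul, ruact_zsmul, ruact_I]

theorem ruact_sm_coe (f : fourRu) (c : GaussianInt) (v : ruLattice) (h : c • (v : RuVec) ∈ ruLattice) :
    ((f.1 ⟨c • (v : RuVec), h⟩ : ruLattice) : RuVec) = c • ((f.1 v : ruLattice) : RuVec) := by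
  have := ruact_sm f c v
  exact congrArg Subtype.val this


/-! ### polarisation -/

theorem ruact_herm_re (f : fourRu) (v w : ruLattice) :
    (rvlHerm (f.1 v : RuVec) (f.1 w : RuVec)).re = (rvlHerm (v : RuVec) (w : RuVec)).re := by
  have h1 := ruact_norm f (v + w)
  rw [ruact_add] at h1
  push_cast at h1
  rw [ruNorm_add, ruNorm_add, ruact_norm, ruact_norm] at h1
  linarith

/-- elements of `fourRu` preserve the Hermitian form -/
theorem ruact_herm (f : fourRu) (v w : ruLattice) :
    rvlHerm (f.1 v : RuVec) (f.1 w : RuVec) = rvlHerm (v : RuVec) (w : RuVec) := by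
  apply Zsqrtd.ext
  · exact ruact_herm_re f v w
  · have h := ruact_herm_re f v (ruI w)
    rw [ruact_I] at h
    have e : ∀ x y : RuVec, (rvlHerm x (gI • y)).re = (rvlHerm x y).im := by
      intro x y
      rw [rvlHerm_smul_right, rvl_star_gI]
      simp [gI]
    have e1 : ((ruI (f.1 w) : ruLattice) : RuVec) = gI • ((f.1 w : ruLattice) : RuVec) := rfl
    have e2 : ((ruI w : ruLattice) : RuVec) = gI • (w : RuVec) := rfl
    rw [e1, e2, e, e] at h
    exact h

/-! ### powers of `i` -/

theorem ru_gI_pow_four : gI ^ 4 = 1 := by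
  apply Zsqrtd.ext <;> simp [gI, pow_succ]

theorem ru_gI_pow_norm (k : ℕ) : (gI ^ k).norm = 1 := by
  induction k with
  | zero => simp
  | succ k ih => rw [pow_succ, Zsqrtd.norm_mul, ih, rvl_norm_gI, mul_one]

theorem ru_gI_pow_mul_three (k : ℕ) : gI ^ (3 * k) * gI ^ k = 1 := by
  rw [← pow_add, show 3 * k + k = 4 * k by ring, pow_mul, ru_gI_pow_four, one_pow]

theorem ru_gI_pow_mod (k : ℕ) : gI ^ k = gI ^ (k % 4) := by
  conv_lhs => rw [← Nat.div_add_mod k 4, pow_add, pow_mul, ru_gI_pow_four, one_pow, one_mul]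

theorem ru_gI_pow_inj {a b : ℕ} (ha : a < 4) (hb : b < 4) (h : gI ^ a = gI ^ b) : a = b := by
  have h0 : (gI : GaussianInt) ^ 0 = ⟨1, 0⟩ := by apply Zsqrtd.ext <;> simp
  have h1 : (gI : GaussianInt) ^ 1 = ⟨0, 1⟩ := by apply Zsqrtd.ext <;> simp [gI]
  have h2 : (gI : GaussianInt) ^ 2 = ⟨-1, 0⟩ := by apply Zsqrtd.ext <;> simp [gI, pow_succ]
  have h3 : (gI : GaussianInt) ^ 3 = ⟨0, -1⟩ := by apply Zsqrtd.ext <;> simp [gI, pow_succ]
  interval_cases a <;> interval_cases b <;> first | rfl | skip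
  all_goals (exfalso; simp only [h0, h1, h2, h3, Zsqrtd.ext_iff] at h; omega)

theorem ruNorm_gI_pow (k : ℕ) (x : RuVec) : ruNorm (gI ^ k • x) = ruNorm x := by
  rw [ruNorm_smul, ru_gI_pow_norm, one_mul]

/-! ### the scalar `i` as an element of `fourRu` -/

theorem ruI_add (v w : ruLattice) : ruI (v + w) = ruI v + ruI w := by
  apply Subtype.ext
  simp [ruI, smul_add]

theorem ruI_four (v : ruLattice) : ruI (ruI (ruI (ruI v))) = v := by
  apply Subtype.ext
  change gI • gI • gI • gI • (v : RuVec) = v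
  rw [smul_smul, smul_smul, smul_smul, show gI * gI * gI * gI = gI ^ 4 by ring, ru_gI_pow_four,
    one_smul]

/-- the scalar `i` as a permutation of the lattice -/
def ruIPerm : Equiv.Perm ruLattice where
  toFun := ruI
  invFun := fun v => ruI (ruI (ruI v))
  left_inv := fun v => ruI_four v
  right_inv := fun v => ruI_four v

theorem ruIPerm_mem : ruIPerm ∈ fourRu := by
  refine ⟨fun v w => ruI_add v w, fun v => rfl, fun v => ?_⟩
  change ruNorm (gI • (v : RuVec)) = _
  exact ruNorm_gI _

/-- the scalar `i` in `fourRu` -/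
def ruScal : fourRu := ⟨ruIPerm, ruIPerm_mem⟩

theorem ruScal_apply (v : ruLattice) : ruScal.1 v = ruI v := rfl

theorem ruScal_pow_apply (k : ℕ) (v : ruLattice) : (ruScal ^ k).1 v = ruSm (gI ^ k) v := by
  induction k generalizing v with
  | zero =>
    apply Subtype.ext
    simp [ruSm_coe]
  | succ k ih =>
    rw [pow_succ']
    change ruScal.1 ((ruScal ^ k).1 v) = _
    rw [ih, ruScal_apply]
    apply Subtype.ext
    change gI • (gI ^ k • (v : RuVec)) = gI ^ (k + 1) • (v : RuVec)
    rw [smul_smul, pow_succ']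

theorem ruScal_central (f : fourRu) : ruScal * f = f * ruScal := by
  apply Subtype.ext
  apply Equiv.ext
  intro v
  change ruI (f.1 v) = f.1 (ruI v)
  rw [ruact_I]

theorem ruScal_pow_four : ruScal ^ 4 = 1 := by
  apply Subtype.ext
  apply Equiv.ext
  intro v
  rw [ruScal_pow_apply, ru_gI_pow_four]
  apply Subtype.ext
  simp [ruSm_coe]

end Cfsg.Agent.Lib.Helper16.RU
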