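import Mathlib
import Cfsg.Prelude.Def_Spor_Ru
import Cfsg.Agent.Lib.Helper29.RvLBasic
import Cfsg.Agent.Lib.Helper16.RU.Act

set_option autoImplicit false

/-!
# Project RU (helper16): the permutation action of `fourRu` on the lines of minimal vectors

Given a labelling `rep : ℕ → RuVec` of the classes of minimal vectors modulo units by `j < n`
(`RuLines`), every `f ∈ fourRu` induces a permutation of `Fin n`; this is a homomorphism
`ruLineHom : fourRu →* Equiv.Perm (Fin n)`.
-/

namespace Cfsg.Agent.Lib.Helper16.RU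

open Cfsg.Spor Cfsg.Agent.Lib.Helper29

/-- a labelling of the lines (classes of minimal vectors modulo the units) by `j < n` -/
structure RuLines (n : ℕ) (rep : ℕ → RuVec) : Prop where
  mem : ∀ j < n, rep j ∈ ruLattice
  norm : ∀ j < n, ruNorm (rep j) = 16
  complete : ∀ x ∈ ruLattice, ruNorm x = 16 → ∃ j < n, ∃ k : ℕ, x = gI ^ k • rep j
  inj : ∀ j < n, ∀ j' < n, ∀ k : ℕ, rep j' = gI ^ k • rep j → j = j'

variable {n : ℕ} {rep : ℕ → RuVec}

/-- the representative of the line `j` as an element of the lattice -/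
def RuLines.pt (h : RuLines n rep) (j : Fin n) : ruLattice := ⟨rep j.1, h.mem j.1 j.2⟩

theorem RuLines.pt_coe (h : RuLines n rep) (j : Fin n) : ((h.pt j : ruLattice) : RuVec) = rep j.1 := rfl

/-- `f` maps the line `j` to the line `j'` -/
def RuLines.Maps (h : RuLines n rep) (f : fourRu) (j j' : Fin n) : Prop :=
  ∃ k : ℕ, ((f.1 (h.pt j) : ruLattice) : RuVec) = gI ^ k • rep j'.1

theorem RuLines.maps_exists (h : RuLines n rep) (f : fourRu) (j : Fin n) : ∃ j', h.Maps f j j' := by
  have h1 : ruNorm ((f.1 (h.pt j) : ruLattice) : RuVec) = 16 := by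
    rw [ruact_norm, h.pt_coe, h.norm j.1 j.2]
  obtain ⟨j', hj', k, hk⟩ := h.complete _ (f.1 (h.pt j)).2 h1
  exact ⟨⟨j', hj'⟩, k, hk⟩

theorem RuLines.maps_unique (h : RuLines n rep) (f : fourRu) (j j' j'' : Fin n)
    (h1 : h.Maps f j j') (h2 : h.Maps f j j'') : j' = j'' := by
  obtain ⟨k, hk⟩ := h1
  obtain ⟨k', hk'⟩ := h2
  rw [hk] at hk'
  have h3 : rep j''.1 = gI ^ (3 * k' + k) • rep j'.1 := by
    rw [pow_add, mul_smul, hk', smul_smul, ru_gI_pow_mul_three, one_smul]
  exact Fin.ext (h.inj j'.1 j'.2 j''.1 j''.2 _ h3)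

/-- the induced map on lines -/
noncomputable def RuLines.fn (h : RuLines n rep) (f : fourRu) (j : Fin n) : Fin n :=
  Classical.choose (h.maps_exists f j)

theorem RuLines.fn_spec (h : RuLines n rep) (f : fourRu) (j : Fin n) : h.Maps f j (h.fn f j) :=
  Classical.choose_spec (h.maps_exists f j)

theorem RuLines.fn_eq (h : RuLines n rep) (f : fourRu) (j j' : Fin n) (hm : h.Maps f j j') :
    h.fn f j = j' := h.maps_unique f j _ _ (h.fn_spec f j) hm

theorem RuLines.maps_one (h : RuLines n rep) (j : Fin n) : h.Maps 1 j j :=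
  ⟨0, by simp [RuLines.pt_coe]⟩

theorem RuLines.maps_mul (h : RuLines n rep) (f g : fourRu) (j j' j'' : Fin n)
    (hg : h.Maps g j j') (hf : h.Maps f j' j'') : h.Maps (f * g) j j'' := by
  obtain ⟨k, hk⟩ := hg
  obtain ⟨k', hk'⟩ := hf
  refine ⟨k + k', ?_⟩
  change ((f.1 (g.1 (h.pt j)) : ruLattice) : RuVec) = _
  have e : g.1 (h.pt j) = ruSm (gI ^ k) (h.pt j') := Subtype.ext hk
  rw [e, ruact_sm, ruSm_coe, hk', smul_smul, pow_add]

theorem RuLines.fn_one (h : RuLines n rep) (j : Fin n) : h.fn 1 j = j := h.fn_eq 1 j j (h.maps_one j)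

theorem RuLines.fn_mul (h : RuLines n rep) (f g : fourRu) (j : Fin n) :
    h.fn (f * g) j = h.fn f (h.fn g j) :=
  h.fn_eq _ _ _ (h.maps_mul f g j _ _ (h.fn_spec g j) (h.fn_spec f _))

/-- the induced permutation of the lines -/
noncomputable def RuLines.perm (h : RuLines n rep) (f : fourRu) : Equiv.Perm (Fin n) where
  toFun := h.fn f
  invFun := h.fn f⁻¹
  left_inv := fun j => by rw [← h.fn_mul, inv_mul_cancel, h.fn_one]
  right_inv := fun j => by rw [← h.fn_mul, mul_inv_cancel, h.fn_one]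

/-- the action of `fourRu` on the lines -/
noncomputable def RuLines.hom (h : RuLines n rep) : fourRu →* Equiv.Perm (Fin n) where
  toFun := h.perm
  map_one' := Equiv.ext fun j => h.fn_one j
  map_mul' := fun f g => Equiv.ext fun j => h.fn_mul f g j

theorem RuLines.hom_apply (h : RuLines n rep) (f : fourRu) (j : Fin n) : h.hom f j = h.fn f j := rfl

theorem RuLines.hom_eq_of_maps (h : RuLines n rep) (f : fourRu) (σ : Equiv.Perm (Fin n))
    (hm : ∀ j, h.Maps f j (σ j)) : h.hom f = σ :=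
  Equiv.ext fun j => h.fn_eq f j _ (hm j)

theorem RuLines.mem_ker_iff (h : RuLines n rep) (f : fourRu) :
    f ∈ h.hom.ker ↔ ∀ j, h.Maps f j j := by
  rw [MonoidHom.mem_ker]
  constructor
  · intro hf j
    have := h.fn_spec f j
    rw [← h.hom_apply, hf] at this
    exact this
  · intro hf
    exact h.hom_eq_of_maps f 1 hf

theorem ruScal_pow_mem_ker (h : RuLines n rep) (k : ℕ) : ruScal ^ k ∈ h.hom.ker := by
  rw [h.mem_ker_iff]
  intro j
  refine ⟨k, ?_⟩
  rw [ruScal_pow_apply, ruSm_coe, h.pt_coe]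

end Cfsg.Agent.Lib.Helper16.RU
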