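import Mathlib
import Cfsg.Prelude.Def_Spor_Ru
import Cfsg.Agent.Lib.Helper29.RvLBasic
import Cfsg.Agent.Lib.Helper16.RU.Act
import Cfsg.Agent.Lib.Helper16.RU.Lines

set_option autoImplicit false

/-!
# Project RU (helper16): the kernel of the action on lines is `⟨i⟩`, of order 4

Needs a spanning family of minimal vectors whose non-orthogonality graph is connected (`RuSpan`).
-/

namespace Cfsg.Agent.Lib.Helper16.RU

open Cfsg.Spor Cfsg.Agent.Lib.Helper29

/-- a spanning family of minimal vectors with connected non-orthogonality graph -/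
structure RuSpan (m : ℕ) (B : Fin m → RuVec) : Prop where
  mem : ∀ t, B t ∈ ruLattice
  norm : ∀ t, ruNorm (B t) = 16
  span : ∀ x ∈ ruLattice, ∃ c : Fin m → GaussianInt, x = ∑ t, c t • B t
  conn : ∀ S : Set (Fin m), (∃ t, t ∈ S) →
    (∀ s ∈ S, ∀ t, rvlHerm (B t) (B s) ≠ 0 → t ∈ S) → ∀ t, t ∈ S

variable {n m : ℕ} {rep : ℕ → RuVec} {B : Fin m → RuVec}

/-- an element of the kernel multiplies every minimal vector by a unit -/
theorem ruker_unit (h : RuLines n rep) (f : fourRu) (hf : f ∈ h.hom.ker) (x : ruLattice)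
    (hx : ruNorm (x : RuVec) = 16) : ∃ k : ℕ, ((f.1 x : ruLattice) : RuVec) = gI ^ k • (x : RuVec) := by
  obtain ⟨j, hj, k0, hk0⟩ := h.complete _ x.2 hx
  obtain ⟨k, hk⟩ := (h.mem_ker_iff f).1 hf ⟨j, hj⟩
  refine ⟨k, ?_⟩
  have e : x = ruSm (gI ^ k0) (h.pt ⟨j, hj⟩) := Subtype.ext hk0
  rw [e, ruact_sm, ruSm_coe, hk, ruSm_coe, h.pt_coe, smul_smul, smul_smul, mul_comm]

theorem ru_gI_pow_star_mul (k : ℕ) : gI ^ k * star (gI ^ k) = 1 := by
  have h := ru_gI_pow_norm k
  have h2 : ((gI ^ k).norm : GaussianInt) = gI ^ k * star (gI ^ k) := Zsqrtd.norm_eq_mul_conj _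
  rw [← h2, h]
  simp

theorem ruker_scalar (h : RuLines n rep) (hB : RuSpan m B) (f : fourRu) (hf : f ∈ h.hom.ker) :
    ∃ k : ℕ, f = ruScal ^ k := by
  -- units on the family
  have h1 : ∀ t, ∃ k : ℕ, ((f.1 ⟨B t, hB.mem t⟩ : ruLattice) : RuVec) = gI ^ k • B t :=
    fun t => ruker_unit h f hf ⟨B t, hB.mem t⟩ (hB.norm t)
  choose u hu using h1
  -- all the same
  have h2 : ∀ s t, rvlHerm (B t) (B s) ≠ 0 → gI ^ u t = gI ^ u s := by
    intro s t hst
    have e := ruact_herm f ⟨B t, hB.mem t⟩ ⟨B s, hB.mem s⟩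
    rw [hu t, hu s, rvlHerm_smul_left, rvlHerm_smul_right] at e
    have e2 : (gI ^ u t * star (gI ^ u s)) * rvlHerm (B t) (B s) = 1 * rvlHerm (B t) (B s) := by
      rw [one_mul, mul_assoc]
      exact e
    have e3 := mul_right_cancel₀ hst e2
    calc gI ^ u t = gI ^ u t * (star (gI ^ u s) * gI ^ u s) := by
          rw [mul_comm (star _), ru_gI_pow_star_mul, mul_one]
      _ = gI ^ u s := by rw [← mul_assoc, e3, one_mul]
  have h3 : ∃ k : ℕ, ∀ t, gI ^ u t = gI ^ k := by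
    rcases isEmpty_or_nonempty (Fin m) with hm | ⟨⟨t0⟩⟩
    · exact ⟨0, fun t => (hm.false t).elim⟩
    · refine ⟨u t0, ?_⟩
      apply hB.conn {t | gI ^ u t = gI ^ u t0} ⟨t0, rfl⟩
      intro s hs t hst
      change gI ^ u t = gI ^ u t0
      rw [h2 s t hst]
      exact hs
  obtain ⟨k, hk⟩ := h3
  refine ⟨k, ?_⟩
  apply Subtype.ext
  apply Equiv.ext
  intro v
  rw [ruScal_pow_apply]
  obtain ⟨c, hc⟩ := hB.span _ v.2
  have e : v = ∑ t, ruSm (c t) ⟨B t, hB.mem t⟩ := by
    apply Subtype.ext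
    rw [hc]
    push_cast
    rfl
  apply Subtype.ext
  rw [ruSm_coe]
  conv_lhs => rw [e, ruact_sum]
  push_cast
  rw [hc, Finset.smul_sum]
  refine Finset.sum_congr rfl fun t _ => ?_
  rw [ruact_sm, ruSm_coe, hu t, hk t, smul_smul, smul_smul, mul_comm]

theorem ruker_eq (h : RuLines n rep) (hB : RuSpan m B) : h.hom.ker = Subgroup.zpowers ruScal := by
  apply le_antisymm
  · intro f hf
    obtain ⟨k, rfl⟩ := ruker_scalar h hB f hf
    exact Subgroup.npow_mem_zpowers _ _
  · rw [Subgroup.zpowers_le]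
    have := ruScal_pow_mem_ker h 1
    rwa [pow_one] at this

theorem ruScal_sq_ne (h : RuLines n rep) (hn : 0 < n) : ruScal ^ 2 ≠ 1 := by
  intro e
  have e1 := ruScal_pow_apply 2 (h.pt ⟨0, hn⟩)
  rw [e] at e1
  have e2 := congrArg Subtype.val e1
  rw [ruSm_coe, h.pt_coe] at e2
  change rep 0 = _ at e2
  have h2 : (gI : GaussianInt) ^ 2 = -1 := by rw [pow_two, rvl_gI_mul_gI]
  rw [h2, neg_smul, one_smul] at e2
  have h3 : rep 0 = 0 := by
    have : (2 : ℤ) • rep 0 = 0 := by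
      rw [two_smul]
      nth_rewrite 1 [e2]
      exact neg_add_cancel _
    exact (smul_eq_zero.1 this).resolve_left (by norm_num)
  have h4 := h.norm 0 hn
  rw [h3] at h4
  simp [ruNorm] at h4

theorem ruScal_order (h : RuLines n rep) (hn : 0 < n) : orderOf ruScal = 4 := by
  have := orderOf_eq_prime_pow (p := 2) (n := 1) (x := ruScal) (by simpa using ruScal_sq_ne h hn)
    (by simpa using ruScal_pow_four)
  simpa using this

theorem ruker_card (h : RuLines n rep) (hB : RuSpan m B) (hn : 0 < n) : Nat.card h.hom.ker = 4 := by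
  rw [ruker_eq h hB, Nat.card_zpowers, ruScal_order h hn]

theorem ruker_le_center (h : RuLines n rep) (hB : RuSpan m B) : h.hom.ker ≤ Subgroup.center fourRu := by
  rw [ruker_eq h hB, Subgroup.zpowers_le, Subgroup.mem_center_iff]
  intro g
  exact (ruScal_central g).symm

end Cfsg.Agent.Lib.Helper16.RU
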