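import Mathlib
import Cfsg.Prelude.Def_Spor_Ru
import Cfsg.Agent.Lib.Helper29.RvLBasic
import Cfsg.Agent.Lib.Helper16.RU.Act
import Cfsg.Agent.Lib.Helper16.RU.Lines
import Cfsg.Agent.Lib.Helper16.RU.Ker

set_option autoImplicit false

/-!
# Project RU (helper16): abstract assembly

From a labelling of the lines (`RuLines`), a connected spanning family (`RuSpan`), the upper bound
`|fourRu| ≤ 4 N` and a simple group `H ≤ Perm (Fin n)` of order `N` (not a prime) contained in the
image of the action on lines: the centre of `fourRu` has order 4 and `Ru ≃* H`.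
-/

namespace Cfsg.Agent.Lib.Helper16.RU

open Cfsg.Spor Cfsg.Agent.Lib.Helper29

/-- the centre of a simple group whose order is not a prime is trivial -/
theorem ruasm_center_bot {P : Type*} [Group P] [IsSimpleGroup P]
    (hnp : ¬ (Nat.card P).Prime) : Subgroup.center P = ⊥ := by
  rcases (inferInstance : (Subgroup.center P).Normal).eq_bot_or_eq_top with h | h
  · exact h
  · exfalso
    apply hnp
    have hcomm : ∀ a b : P, a * b = b * a := by
      intro a b
      have : b ∈ Subgroup.center P := by rw [h]; trivial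
      exact Subgroup.mem_center_iff.mp this a
    let _ : CommGroup P := { (inferInstance : Group P) with mul_comm := hcomm }
    exact IsSimpleGroup.prime_card

variable {n m : ℕ} {rep : ℕ → RuVec} {B : Fin m → RuVec}

theorem ruasm_range_eq (h : RuLines n rep) (hB : RuSpan m B) (hn : 0 < n)
    (H : Subgroup (Equiv.Perm (Fin n))) (N : ℕ) (hcard : Nat.card H = N)
    (hupper : Nat.card fourRu ≤ 4 * N) (hgens : H ≤ h.hom.range) : H = h.hom.range := by
  haveI : Finite h.hom.ker := Nat.finite_of_card_ne_zero (by rw [ruker_card h hB hn]; norm_num)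
  have e1 : Nat.card (fourRu ⧸ h.hom.ker) = Nat.card h.hom.range :=
    Nat.card_congr (QuotientGroup.quotientKerEquivRange h.hom).toEquiv
  have e2 := Subgroup.card_eq_card_quotient_mul_card_subgroup h.hom.ker
  rw [ruker_card h hB hn, e1] at e2
  apply Subgroup.eq_of_le_of_card_ge hgens
  rw [hcard]
  omega

theorem ruasm_center_eq (h : RuLines n rep) (hB : RuSpan m B)
    (H : Subgroup (Equiv.Perm (Fin n))) [IsSimpleGroup H] (hnp : ¬ (Nat.card H).Prime)
    (hr : H = h.hom.range) : Subgroup.center fourRu = h.hom.ker := by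
  apply le_antisymm
  · intro z hz
    have hzr : h.hom z ∈ H := by rw [hr]; exact ⟨z, rfl⟩
    have hc : (⟨h.hom z, hzr⟩ : H) ∈ Subgroup.center H := by
      rw [Subgroup.mem_center_iff]
      rintro ⟨τ, hτ⟩
      have hτ' : τ ∈ h.hom.range := by rw [← hr]; exact hτ
      obtain ⟨g, rfl⟩ := hτ'
      apply Subtype.ext
      change h.hom g * h.hom z = h.hom z * h.hom g
      rw [← map_mul, ← map_mul, Subgroup.mem_center_iff.1 hz g]
    rw [ruasm_center_bot hnp, Subgroup.mem_bot] at hc
    rw [MonoidHom.mem_ker]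
    exact congrArg Subtype.val hc
  · exact ruker_le_center h hB

/-- the abstract assembly -/
theorem ruasm_main (h : RuLines n rep) (hB : RuSpan m B) (hn : 0 < n)
    (H : Subgroup (Equiv.Perm (Fin n))) [IsSimpleGroup H] (N : ℕ) (hcard : Nat.card H = N)
    (hnp : ¬ N.Prime) (hupper : Nat.card fourRu ≤ 4 * N) (hgens : H ≤ h.hom.range) :
    Nat.card (Subgroup.center fourRu) = 4 ∧ Nat.card Ru = N ∧ IsSimpleGroup Ru ∧
      Nonempty (Ru ≃* H) := by
  have hr := ruasm_range_eq h hB hn H N hcard hupper hgens
  have hc := ruasm_center_eq h hB H (by rw [hcard]; exact hnp) hr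
  have e : Ru ≃* H :=
    ((QuotientGroup.quotientMulEquivOfEq hc).trans (QuotientGroup.quotientKerEquivRange h.hom)).trans
      (MulEquiv.subgroupCongr hr.symm)
  refine ⟨?_, ?_, ?_, ⟨e⟩⟩
  · rw [hc, ruker_card h hB hn]
  · rw [Nat.card_congr e.toEquiv, hcard]
  · exact e.isSimpleGroup_congr.2 inferInstance

end Cfsg.Agent.Lib.Helper16.RU
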