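import Mathlib
import Cfsg.Prelude.Def_Spor_Ru
import Cfsg.Agent.Lib.Helper29.RvLBasic
import Cfsg.Agent.Lib.helper14.RuSpan
import Cfsg.Agent.Lib.Helper16.RU.Ker

set_option autoImplicit false

/-!
# Project RU (helper16): helper14's basis `ruB` is a connected spanning family (`RuSpan 28 ruB`)
-/

namespace Cfsg.Agent.Lib.Helper16.RU

open Cfsg.Spor Cfsg.Agent.Lib.Helper29 Cfsg.Agent.Lib.helper14

theorem ru_sum_idx {M : Type*} [AddCommMonoid M] (f : RuIdx → M) :
    ∑ p, f p = ((List.finRange 7).map fun a => ((List.finRange 4).map fun b => f (a, b)).sum).sum := by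
  rw [Fintype.sum_prod_type, Fin.sum_univ_def]
  congr 1

/-- parents in a spanning tree (root `0`, depth 2) of the non-orthogonality graph of `ruB` -/
def ruParL : List ℕ :=
  [0, 3, 3, 0, 3, 0, 3, 0, 3, 5, 0, 0, 3, 3, 3, 5, 0, 3, 3, 3, 3, 3, 3, 7, 3, 3, 0, 0]

/-- the parent of a vertex -/
def ruParF (t : Fin 28) : Fin 28 := Fin.ofNat 28 (ruParL.getD t.val 0)

theorem ruPar_iter : ∀ t : Fin 28, ruParF (ruParF t) = 0 := by decide

theorem ruB_norm_list : ∀ t : Fin 28,
    ((List.finRange 7).map fun a => ((List.finRange 4).map fun b => (ruB t (a, b)).norm).sum).sum = 16 := by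
  decide +kernel

theorem ruB_norm (t : Fin 28) : ruNorm (ruB t) = 16 := by
  rw [ruNorm, ru_sum_idx]
  exact ruB_norm_list t

theorem ruB_adj_list : ∀ t : Fin 28,
    ((List.finRange 7).map fun a => ((List.finRange 4).map fun b =>
      ruB t (a, b) * star (ruB (ruParF t) (a, b))).sum).sum ≠ 0 := by
  decide +kernel

theorem ruB_adj (t : Fin 28) : rvlHerm (ruB t) (ruB (ruParF t)) ≠ 0 := by
  rw [rvlHerm, ru_sum_idx]
  exact ruB_adj_list t

theorem ruB_adj' (t : Fin 28) : rvlHerm (ruB (ruParF t)) (ruB t) ≠ 0 := by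
  rw [rvlHerm_conj]
  intro h
  apply ruB_adj t
  have := congrArg star h
  rwa [star_star, star_zero] at this

theorem ruB_span : RuSpan 28 ruB where
  mem := ruB_mem
  norm := ruB_norm
  span := fun x hx => by
    obtain ⟨c, -, hc⟩ := ru_span hx
    exact ⟨c, hc⟩
  conn := by
    rintro S ⟨t0, ht0⟩ hS t
    have up : ∀ s, s ∈ S → ruParF s ∈ S := fun s hs => hS s hs _ (ruB_adj' s)
    have down : ∀ s, ruParF s ∈ S → s ∈ S := fun s hs => hS _ hs s (ruB_adj s)
    have h0 : (0 : Fin 28) ∈ S := by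
      have := up _ (up _ ht0)
      rwa [ruPar_iter] at this
    apply down
    apply down
    rw [ruPar_iter]
    exact h0

end Cfsg.Agent.Lib.Helper16.RU
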