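import Mathlib
import Cfsg.Prelude.Def_Spor_Ru
import Cfsg.Agent.Lib.Helper16.RU.Asm
import Cfsg.Agent.Lib.Helper16.RU.SpanInst
import Cfsg.Agent.Lib.Helper29.RULines
import Cfsg.Agent.Lib.Helper29.RUUpper
import Cfsg.Agent.Lib.helper23.RULWords
import Cfsg.Agent.Lib.helper23.RuMain

set_option autoImplicit false

/-!
# Project RU (helper16): the Rudvalis group `fourRu ⧸ centre` is helper23's 4060-point model

Inputs: LINES (helper29 `ru_lines`), UPPER (helper29 / helper23 `ru_card_le`), SPAN (helper14 `ru_span`,
`ruB_span`), the word reduction (helper23 `rul_hgens`), and five elements of `fourRu` acting on the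
lines as the letters `Rj`, `Rk`, `Sign`, `Shift`, `U` (hypotheses `fL`, `hL` here).
-/

namespace Cfsg.Agent.Lib.Helper16.RU

open Cfsg.Spor Cfsg.Agent.Lib.Helper29 Cfsg.Agent.Lib.helper23

/-- `fourRu` is finite -/
theorem ru_finite : Finite fourRu := by
  have h := ru_lines
  have : Finite h.hom.ker :=
    Nat.finite_of_card_ne_zero (by rw [ruker_card h ruB_span (by norm_num)]; norm_num)
  have : Finite (fourRu ⧸ h.hom.ker) :=
    Finite.of_equiv _ (QuotientGroup.quotientKerEquivRange h.hom).symm.toEquiv
  exact Finite.of_subgroup_quotient h.hom.ker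

/-- S1627 and the identification with the 4060-point model, from the five letter facts -/
theorem ru_main_of_letters (fL : Fin 5 → fourRu)
    (hL : ∀ L j, ru_lines.Maps (fL L) j (rulGenFin L j)) :
    Nat.card (Subgroup.center fourRu) = 4 ∧ Nat.card Ru = 145926144000 ∧ IsSimpleGroup Ru ∧
      Nonempty (Ru ≃* pgGrpW 4060 ruC) := by
  have := rusimple
  refine ruasm_main ru_lines ruB_span (by norm_num) (pgGrpW 4060 ruC) 145926144000 rucard
    (by norm_num) ?_ (rul_hgens ru_lines fL hL)
  have := ru_card_le
  norm_num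
  exact this

end Cfsg.Agent.Lib.Helper16.RU
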