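import Mathlib
import Cfsg.Prelude.Def_Spor_Ru
import Cfsg.Agent.Lib.Helper29.RvLBasic
import Cfsg.Agent.Lib.Helper29.RvLMain
import Cfsg.Agent.Lib.Helper16.RU.Act

set_option autoImplicit false

/-!
# Project RU (helper16): the monomial maps `Sign` and `Shift` as elements of `fourRu`
(`Rj`, `Rk` are `ruAutRj`, `ruAutRk` of `Cfsg.Agent.Lib.Helper29.RUCover`)
-/

namespace Cfsg.Agent.Lib.Helper16.RU

open Cfsg.Spor Cfsg.Agent.Lib.Helper29

theorem rumono_Sign_Sign (v : RuVec) : ruSign (ruSign v) = v := by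
  funext p
  simp only [ruSign]
  split_ifs <;> simp

theorem rumono_Sign_add (v w : RuVec) : ruSign (v + w) = ruSign v + ruSign w := by
  funext p
  simp only [ruSign, Pi.add_apply]
  split_ifs <;> simp [add_comm]

theorem rumono_Sign_gI (v : RuVec) : ruSign (gI • v) = gI • ruSign v := by
  funext p
  simp only [ruSign, Pi.smul_apply, smul_eq_mul]
  split_ifs <;> simp

/-- `Sign` as a permutation of the lattice -/
def ruPermSign : Equiv.Perm ruLattice where
  toFun v := ⟨ruSign v, rvl_Sign_mem v.2⟩
  invFun v := ⟨ruSign v, rvl_Sign_mem v.2⟩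
  left_inv v := Subtype.ext (rumono_Sign_Sign v)
  right_inv v := Subtype.ext (rumono_Sign_Sign v)

theorem ruPermSign_mem : ruPermSign ∈ fourRu :=
  ⟨fun v w => Subtype.ext (rumono_Sign_add v w), fun v => Subtype.ext (rumono_Sign_gI v),
    fun v => ruNorm_Sign v⟩

/-- `Sign` as an element of `fourRu` -/
def ruAutSign : fourRu := ⟨ruPermSign, ruPermSign_mem⟩

theorem ruAutSign_apply (v : ruLattice) : ((ruAutSign.1 v : ruLattice) : RuVec) = ruSign v := rfl

theorem rumono_Shift_ShInv (v : RuVec) : ruShift (rvlShInv v) = v := by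
  funext p
  simp only [ruShift, rvlShInv]
  congr 1
  ext <;> simp

theorem rumono_ShInv_Shift (v : RuVec) : rvlShInv (ruShift v) = v := by
  funext p
  simp only [ruShift, rvlShInv]
  congr 1
  ext <;> simp

theorem rumono_Shift_add (v w : RuVec) : ruShift (v + w) = ruShift v + ruShift w := by
  funext p
  simp only [ruShift, Pi.add_apply]

theorem rumono_Shift_gI (v : RuVec) : ruShift (gI • v) = gI • ruShift v := by
  funext p
  simp only [ruShift, Pi.smul_apply]

/-- `Shift` as a permutation of the lattice -/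
def ruPermShift : Equiv.Perm ruLattice where
  toFun v := ⟨ruShift v, rvl_Shift_mem v.2⟩
  invFun v := ⟨rvlShInv v, rvl_ShInv_mem v.2⟩
  left_inv v := Subtype.ext (rumono_ShInv_Shift v)
  right_inv v := Subtype.ext (rumono_Shift_ShInv v)

theorem ruPermShift_mem : ruPermShift ∈ fourRu :=
  ⟨fun v w => Subtype.ext (rumono_Shift_add v w), fun v => Subtype.ext (rumono_Shift_gI v),
    fun v => ruNorm_Shift v⟩

/-- `Shift` as an element of `fourRu` -/
def ruAutShift : fourRu := ⟨ruPermShift, ruPermShift_mem⟩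

theorem ruAutShift_apply (v : ruLattice) : ((ruAutShift.1 v : ruLattice) : RuVec) = ruShift v := rfl

end Cfsg.Agent.Lib.Helper16.RU
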