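import Mathlib
import Cfsg.Prelude.Def_Spor_Ru
import Cfsg.Agent.Lib.Helper16.RU.Main
import Cfsg.Agent.Lib.Helper16.RU.Mono
import Cfsg.Agent.Lib.Helper29.RUCover
import Cfsg.Agent.Lib.helper23.RULLetters

set_option autoImplicit false

/-!
# Project RU (helper16): the five letters `Rj`, `Rk`, `Sign`, `Shift`, `U` acting on the lines

The four monomial letters are done here (helper23's `rul_letter_*`); `U` is a parameter `fU` with its
frame description (`4 (fU v) p = ⟨v, W p⟩`) and its mask-level line fact (helper29).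
-/

namespace Cfsg.Agent.Lib.Helper16.RU

open Cfsg.Spor Cfsg.Agent.Lib.Helper29 Cfsg.Agent.Lib.helper23

/-- the five letters, given `U` -/
def ruLetters (fU : fourRu) : Fin 5 → fourRu := ![ruAutRj, ruAutRk, ruAutSign, ruAutShift, fU]

/-- an element given by a frame maps the line `j` to the line `j'` if the frame says so -/
theorem ru_maps_of_frame (f : fourRu) (W : RuIdx → RuVec)
    (hf : ∀ (v : ruLattice) (p : RuIdx), 4 * ((f.1 v : ruLattice) : RuVec) p = rvlHerm (v : RuVec) (W p))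
    (j j' : Fin 4060)
    (h : ∃ k : ℕ, ∀ p, rvlHerm (ruLineRep j.1) (W p) = 4 * (gI ^ k • ruLineRep j'.1) p) :
    ru_lines.Maps f j j' := by
  obtain ⟨k, hk⟩ := h
  refine ⟨k, ?_⟩
  funext p
  have h1 := hf (ru_lines.pt j) p
  rw [ru_lines.pt_coe, hk p] at h1
  exact mul_left_cancel₀ (by norm_num : (4 : GaussianInt) ≠ 0) h1

theorem ruLetters_maps (fU : fourRu) (hU : ∀ j : Fin 4060, ru_lines.Maps fU j (rulGenFin 4 j)) :
    ∀ L j, ru_lines.Maps (ruLetters fU L) j (rulGenFin L j) := by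
  intro L j
  fin_cases L
  · obtain ⟨k, hk⟩ := rul_letter_Rj j.2
    exact ⟨k, hk⟩
  · obtain ⟨k, hk⟩ := rul_letter_Rk j.2
    exact ⟨k, hk⟩
  · obtain ⟨k, hk⟩ := rul_letter_Sign j.2
    exact ⟨k, hk⟩
  · obtain ⟨k, hk⟩ := rul_letter_Shift j.2
    exact ⟨k, hk⟩
  · exact hU j

/-- S1627 and the identification with the 4060-point model, from `U` -/
theorem ru_main_of_U (fU : fourRu) (hU : ∀ j : Fin 4060, ru_lines.Maps fU j (rulGenFin 4 j)) :
    Nat.card (Subgroup.center fourRu) = 4 ∧ Nat.card Ru = 145926144000 ∧ IsSimpleGroup Ru ∧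
      Nonempty (Ru ≃* pgGrpW 4060 ruC) :=
  ru_main_of_letters (ruLetters fU) (ruLetters_maps fU hU)

end Cfsg.Agent.Lib.Helper16.RU
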