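import Mathlib
import Cfsg.Prelude.Def_Spor_Ru
import Cfsg.Agent.Lib.Helper16.RU.Letters
import Cfsg.Agent.Lib.Helper29.RUMapsU

set_option autoImplicit false

/-!
# Project RU: the Rudvalis group `fourRu ⧸ centre` is helper23's 4060-point model (final statements)

Pieces: MIN / GRAM / words / monomial letters (helper23), BRIDGE / LINES / UPPER / `ruAutU` (helper29),
SPAN (helper14), action on lines + kernel + assembly (helper16).
-/

namespace Cfsg.Agent.Lib.Helper16.RU

open Cfsg.Spor Cfsg.Agent.Lib.Helper29 Cfsg.Agent.Lib.helper23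

/-- S1627 and the identification of `Ru` with the 4060-point model -/
theorem ru_main :
    Nat.card (Subgroup.center fourRu) = 4 ∧ Nat.card Ru = 145926144000 ∧ IsSimpleGroup Ru ∧
      Nonempty (Ru ≃* pgGrpW 4060 ruC) :=
  ru_main_of_U ruAutU ru_maps_U

theorem ru_center_card : Nat.card (Subgroup.center fourRu) = 4 := ru_main.1

theorem ru_card : Nat.card Ru = 145926144000 := ru_main.2.1

theorem ru_simple : IsSimpleGroup Ru := ru_main.2.2.1

/-- the key isomorphism of project RU -/
theorem ru_iso : Nonempty (Ru ≃* pgGrpW 4060 ruC) := ru_main.2.2.2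

end Cfsg.Agent.Lib.Helper16.RU
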