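import Mathlib
import Cfsg.Prelude.Def_KGroupFacts
import Cfsg.Prelude.Def_Spor_Ru
import Cfsg.Agent.Lib.Helper16.RU.Final
import Cfsg.Agent.Lib.Helper29.RUCover

set_option autoImplicit false

/-!
# Project RU: the Schur multiplier of `Ru` from the model-level bound (transfer along `ru_iso`)
-/

namespace Cfsg.Agent.Lib.Helper16.RU

open Cfsg.Spor Cfsg.Agent.Lib.Helper29 Cfsg.Agent.Lib.helper23

/-- a stem extension composed with an isomorphism is a stem extension with the same kernel -/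
theorem rumult_stem_comp {Γ G H : Type*} [Group Γ] [Group G] [Group H] (σ : Γ →* G) (e : G ≃* H)
    (hσ : Cfsg.IsStemExtension σ) :
    Cfsg.IsStemExtension (e.toMonoidHom.comp σ) ∧ (e.toMonoidHom.comp σ).ker = σ.ker := by
  have hk : (e.toMonoidHom.comp σ).ker = σ.ker := by
    ext x
    simp only [MonoidHom.mem_ker, MonoidHom.comp_apply, MulEquiv.coe_toMonoidHom,
      EmbeddingLike.map_eq_one_iff]
  refine ⟨⟨?_, ?_, ?_⟩, hk⟩
  · exact e.surjective.comp hσ.1
  · rw [hk]; exact hσ.2.1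
  · rw [hk]; exact hσ.2.2

/-- S2051 from the model-level multiplier bound -/
theorem ru_schur_of_model
    (hmod : ∀ (Γ : Type) [Group Γ] [Finite Γ] (σ : Γ →* ↥(pgGrpW 4060 ruC)),
      Cfsg.IsStemExtension σ → Nat.card σ.ker ≤ 2) :
    Cfsg.HasCyclicSchurMultiplier Ru 2 := by
  obtain ⟨e⟩ := ru_iso
  have := ru_finite
  have := ru_simple
  refine ru_schur_of_upper (by rw [ru_card]; norm_num) ?_
  intro Γ _ _ σ hσ
  obtain ⟨h1, h2⟩ := rumult_stem_comp σ e hσ
  have := hmod Γ (e.toMonoidHom.comp σ) h1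
  rwa [h2] at this

end Cfsg.Agent.Lib.Helper16.RU
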